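import Cfsg.Agent.S2333
import Cfsg.Agent.S2347
import Cfsg.Agent.S0269
import Cfsg.Agent.H514.DP.Core

/-!
# Minimal degrees of the symplectic groups and the criterion K (helper16, for S2454)
-/

set_option autoImplicit false

namespace Cfsg.Agent.H16.DP

open Matrix Cfsg.Agent.H514.DP Subgroup

section Num

theorem num1 {y : ℕ} (hy : 4 ≤ y) : (2 * y + 1) ^ 10 < y ^ 16 := by
  have h1 : 4 * (2 * y + 1) ≤ 9 * y := by omega
  have h2 : (4 * (2 * y + 1)) ^ 10 ≤ (9 * y) ^ 10 := Nat.pow_le_pow_left h1 10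
  rw [mul_pow, mul_pow] at h2
  have h3 : 9 ^ 10 < 4 ^ 10 * y ^ 6 := by
    have : 4 ^ 6 ≤ y ^ 6 := Nat.pow_le_pow_left hy 6
    omega
  have h4 : 9 ^ 10 * y ^ 10 < 4 ^ 10 * y ^ 6 * y ^ 10 := Nat.mul_lt_mul_of_pos_right h3 (by positivity)
  have h5 : 4 ^ 10 * y ^ 6 * y ^ 10 = 4 ^ 10 * y ^ 16 := by ring
  omega

theorem num1e {x : ℕ} (hx : 8 ≤ x) : x ^ 10 < (x - 1) ^ 16 := by
  obtain ⟨y, rfl⟩ : ∃ y, x = y + 1 := ⟨x - 1, by omega⟩
  rw [Nat.add_sub_cancel]
  have h2 : (y + 1) ^ 10 ≤ (2 * y) ^ 10 := Nat.pow_le_pow_left (by omega) 10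
  rw [mul_pow] at h2
  have h3 : 2 ^ 10 < y ^ 6 := by
    have : 7 ^ 6 ≤ y ^ 6 := Nat.pow_le_pow_left (by omega) 6
    omega
  have h4 : 2 ^ 10 * y ^ 10 < y ^ 6 * y ^ 10 := Nat.mul_lt_mul_of_pos_right h3 (pow_pos (by omega) _)
  have h5 : y ^ 6 * y ^ 10 = y ^ 16 := by ring
  omega

theorem numH {y : ℕ} (hy : 12 ≤ y) : (2 * y + 1) ^ 6 < y ^ 8 := by
  have h1 : 12 * (2 * y + 1) ≤ 25 * y := by omega
  have h2 : (12 * (2 * y + 1)) ^ 6 ≤ (25 * y) ^ 6 := Nat.pow_le_pow_left h1 6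
  rw [mul_pow, mul_pow] at h2
  have h3 : 25 ^ 6 < 12 ^ 6 * y ^ 2 := by
    have : 12 ^ 2 ≤ y ^ 2 := Nat.pow_le_pow_left hy 2
    omega
  have h4 : 25 ^ 6 * y ^ 6 < 12 ^ 6 * y ^ 2 * y ^ 6 := Nat.mul_lt_mul_of_pos_right h3 (by positivity)
  have h5 : 12 ^ 6 * y ^ 2 * y ^ 6 = 12 ^ 6 * y ^ 8 := by ring
  omega

theorem numHe {x : ℕ} (hx : 8 ≤ x) : x ^ 6 < (x - 1) ^ 8 := by
  obtain ⟨y, rfl⟩ : ∃ y, x = y + 1 := ⟨x - 1, by omega⟩
  rw [Nat.add_sub_cancel]
  have h2 : (7 * (y + 1)) ^ 6 ≤ (8 * y) ^ 6 := Nat.pow_le_pow_left (by omega) 6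
  rw [mul_pow, mul_pow] at h2
  have h3 : 8 ^ 6 < 7 ^ 6 * y ^ 2 := by
    have : 7 ^ 2 ≤ y ^ 2 := Nat.pow_le_pow_left (by omega) 2
    omega
  have h4 : 8 ^ 6 * y ^ 6 < 7 ^ 6 * y ^ 2 * y ^ 6 := Nat.mul_lt_mul_of_pos_right h3 (pow_pos (by omega) _)
  have h5 : 7 ^ 6 * y ^ 2 * y ^ 6 = 7 ^ 6 * y ^ 8 := by ring
  omega

theorem num2 {y : ℕ} (hy : 32 ≤ y) : (2 * y + 1 - 2) ^ 5 < y ^ 6 := by
  have h2 : (2 * y + 1 - 2) ^ 5 < (2 * y) ^ 5 := Nat.pow_lt_pow_left (by omega) (by omega)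
  rw [mul_pow] at h2
  have h4 : 2 ^ 5 * y ^ 5 ≤ y * y ^ 5 := Nat.mul_le_mul_right _ (by omega)
  have h5 : y * y ^ 5 = y ^ 6 := by ring
  omega

theorem num2e {x : ℕ} (hx : 3 ≤ x) : (x - 2) ^ 5 < (x - 1) ^ 6 := by
  have h1 : (x - 2) ^ 5 < (x - 1) ^ 5 := Nat.pow_lt_pow_left (by omega) (by omega)
  have h2 : (x - 1) ^ 5 ≤ (x - 1) ^ 6 := Nat.pow_le_pow_right (by omega) (by omega)
  omega

end Num

variable {F : Type*} [Field F] [Finite F] {n : ℕ}

theorem minDeg_odd (hn : 2 ≤ n) (hodd : Odd (Nat.card F)) :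
    MinDeg (symplecticGroup (Fin n) F) ((Nat.card F ^ n - 1) / 2) := by
  classical
  have := Fintype.ofFinite F
  rw [Nat.card_eq_fintype_card] at hodd ⊢
  exact (S2347.result n hn hodd).1

theorem minDeg_even (hn : 2 ≤ n) (heven : Even (Nat.card F)) (hex : ¬ (n = 2 ∧ Nat.card F = 2)) :
    MinDeg (symplecticGroup (Fin n) F) (Nat.card F ^ n - 1) := by
  classical
  have := Fintype.ofFinite F
  have hq : 2 ≤ Nat.card F := Finite.one_lt_card
  rw [Nat.card_eq_fintype_card] at heven hex hq ⊢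
  intro k ρ hρ hk
  refine le_trans ?_ (S2333.result n hn heven (fun h => hex ⟨congrArg Prod.fst h, congrArg Prod.snd h⟩) k ρ hρ hk)
  set q := Fintype.card F with hqdef
  rw [Nat.le_div_iff_mul_le (by omega)]
  refine Nat.mul_le_mul_left _ ?_
  have key : q + 2 * (q + 1) ≤ q ^ n := by
    rcases Nat.eq_or_lt_of_le hn with rfl | h3
    · have hq4 : 4 ≤ q := by
        obtain ⟨r, hr⟩ := heven
        have : q ≠ 2 := fun h => hex ⟨rfl, h⟩
        omega
      nlinarith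
    · have h4 : q ^ 3 ≤ q ^ n := Nat.pow_le_pow_right (by omega) h3
      have h5 : 8 ≤ q ^ 3 := by
        have := Nat.pow_le_pow_left hq 3
        omega
      have h6 : q ^ 3 = q * q * q := by ring
      nlinarith
  omega

theorem perf (hn : 2 ≤ n) (hex : ¬ (n = 2 ∧ Nat.card F = 2)) : commutator (symplecticGroup (Fin n) F) = ⊤ := by
  have := Fintype.ofFinite F
  have hq : 2 ≤ Nat.card F := Finite.one_lt_card
  rw [Nat.card_eq_fintype_card] at hex hq
  exact S0269.result n (by omega)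

/-- case 1 -/
theorem pw_one {p m : ℕ} (hn : 2 ≤ n) (hex : ¬ (n = 2 ∧ Nat.card F = 2)) {y : symplecticGroup (Fin n) F} (hy : PE p m y)
    (hC : Nat.card (centralizer ({y} : Set (symplecticGroup (Fin n) F))) ≤ Nat.card F ^ n + 1) :
    PW p (m * 10) (symplecticGroup (Fin n) F) := by
  have hq : 2 ≤ Nat.card F := Finite.one_lt_card
  have h1 : (Nat.card (centralizer ({y} : Set (symplecticGroup (Fin n) F))) - 1) ^ 10 ≤ (Nat.card F ^ n) ^ 10 :=
    Nat.pow_le_pow_left (by omega) 10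
  rcases Nat.even_or_odd (Nat.card F) with h | h
  · refine PW.of_pe (k := 10) (perf hn hex) hy (minDeg_even hn h hex) (by norm_num) (h1.trans_lt ?_)
    refine num1e ?_
    rcases Nat.eq_or_lt_of_le hn with rfl | h3
    · have : Nat.card F ≠ 2 := fun h => hex ⟨rfl, h⟩
      obtain ⟨r, hr⟩ := h
      have := Nat.pow_le_pow_left (show 4 ≤ Nat.card F by omega) 2
      omega
    · have h4 := Nat.pow_le_pow_left hq 3
      have h5 : Nat.card F ^ 3 ≤ Nat.card F ^ n := Nat.pow_le_pow_right (by omega) h3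
      omega
  · obtain ⟨z, hz⟩ := h.pow (n := n)
    have h9 : 9 ≤ Nat.card F ^ n := by
      have hq3 : 3 ≤ Nat.card F := by
        obtain ⟨r, hr⟩ := h
        omega
      have h4 := Nat.pow_le_pow_left hq3 2
      have h5 : Nat.card F ^ 2 ≤ Nat.card F ^ n := Nat.pow_le_pow_right (by omega) hn
      omega
    refine PW.of_pe (k := 10) (perf hn hex) hy (minDeg_odd hn h) (by norm_num) (h1.trans_lt ?_)
    have h6 : (Nat.card F ^ n - 1) / 2 = z := by omega
    rw [h6, hz]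
    exact num1 (by omega)

theorem pow_ge {q n : ℕ} (hq : 2 ≤ q) (hn : 2 ≤ n) (hex : ¬ (n = 2 ∧ q = 2)) : 8 ≤ q ^ n := by
  rcases Nat.eq_or_lt_of_le hn with rfl | h3
  · have : q ≠ 2 := fun h => hex ⟨rfl, h⟩
    have := Nat.pow_le_pow_left (show 3 ≤ q by omega) 2
    omega
  · have h4 := Nat.pow_le_pow_left hq 3
    have h5 : q ^ 3 ≤ q ^ n := Nat.pow_le_pow_right (by omega) h3
    omega

/-- the groups `H` of case 3 -/
theorem pw_H {p : ℕ} (hn : 2 ≤ n) (hex : ¬ (n = 2 ∧ Nat.card F = 2)) (hex2 : ¬ (n = 2 ∧ Nat.card F = 3))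
    {y : symplecticGroup (Fin n) F} (hy : PE p 1 y)
    (hC : Nat.card (centralizer ({y} : Set (symplecticGroup (Fin n) F))) ≤ Nat.card F ^ n + 1) :
    PW p 6 (symplecticGroup (Fin n) F) := by
  have hq : 2 ≤ Nat.card F := Finite.one_lt_card
  have h1 : (Nat.card (centralizer ({y} : Set (symplecticGroup (Fin n) F))) - 1) ^ 6 ≤ (Nat.card F ^ n) ^ 6 :=
    Nat.pow_le_pow_left (by omega) 6
  rcases Nat.even_or_odd (Nat.card F) with h | h
  · exact PW.of_pe (k := 6) (perf hn hex) hy (minDeg_even hn h hex) (by norm_num)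
      (h1.trans_lt (numHe (pow_ge hq hn hex)))
  · obtain ⟨z, hz⟩ := h.pow (n := n)
    have h9 : 25 ≤ Nat.card F ^ n := by
      rcases Nat.eq_or_lt_of_le hn with rfl | h3
      · have hq5 : 5 ≤ Nat.card F := by
          obtain ⟨r, hr⟩ := h
          have : Nat.card F ≠ 3 := fun h => hex2 ⟨rfl, h⟩
          omega
        have := Nat.pow_le_pow_left hq5 2
        omega
      · have hq3 : 3 ≤ Nat.card F := by
          obtain ⟨r, hr⟩ := h
          omega
        have h4 := Nat.pow_le_pow_left hq3 3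
        have h5 : Nat.card F ^ 3 ≤ Nat.card F ^ n := Nat.pow_le_pow_right (by omega) h3
        omega
    refine PW.of_pe (k := 6) (perf hn hex) hy (minDeg_odd hn h) (by norm_num) (h1.trans_lt ?_)
    have h6 : (Nat.card F ^ n - 1) / 2 = z := by omega
    rw [h6, hz]
    exact numH (by omega)

/-- the last step of cases 2, 3 -/
theorem pw_two {p m : ℕ} (hn : 3 ≤ n) (hex : ¬ (n = 3 ∧ Nat.card F = 3)) {y : symplecticGroup (Fin n) F} (hy : PE p m y)
    (hC : Nat.card (centralizer ({y} : Set (symplecticGroup (Fin n) F))) ≤ Nat.card F ^ n - 1) :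
    PW p (m * 5) (symplecticGroup (Fin n) F) := by
  have hq : 2 ≤ Nat.card F := Finite.one_lt_card
  have h1 : (Nat.card (centralizer ({y} : Set (symplecticGroup (Fin n) F))) - 1) ^ 5 ≤ (Nat.card F ^ n - 2) ^ 5 :=
    Nat.pow_le_pow_left (by omega) 5
  rcases Nat.even_or_odd (Nat.card F) with h | h
  · have h8 := pow_ge hq (show 2 ≤ n by omega) (by omega)
    exact PW.of_pe (k := 5) (perf (by omega) (by omega)) hy (minDeg_even (by omega) h (by omega)) (by norm_num)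
      (h1.trans_lt (num2e (by omega)))
  · obtain ⟨z, hz⟩ := h.pow (n := n)
    have h9 : 65 ≤ Nat.card F ^ n := by
      rcases Nat.eq_or_lt_of_le hn with rfl | h3
      · have hq5 : 5 ≤ Nat.card F := by
          obtain ⟨r, hr⟩ := h
          have : Nat.card F ≠ 3 := fun h => hex ⟨rfl, h⟩
          omega
        have := Nat.pow_le_pow_left hq5 3
        omega
      · have hq3 : 3 ≤ Nat.card F := by
          obtain ⟨r, hr⟩ := h
          omega
        have h4 := Nat.pow_le_pow_left hq3 4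
        have h5 : Nat.card F ^ 4 ≤ Nat.card F ^ n := Nat.pow_le_pow_right (by omega) h3
        omega
    refine PW.of_pe (k := 5) (perf (by omega) (by omega)) hy (minDeg_odd (by omega) h) (by norm_num) (h1.trans_lt ?_)
    have h6 : (Nat.card F ^ n - 1) / 2 = z := by omega
    rw [h6, hz]
    exact num2 (by omega)

end Cfsg.Agent.H16.DP
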