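import Cfsg.Agent.H16.DP.Win
import Cfsg.Agent.H16.DP.Deg
import Cfsg.Agent.H514.DP.TTwo

/-!
# `Sp_6(3)`, the prime 5 (helper16, for S2454)
-/

set_option autoImplicit false

namespace Cfsg.Agent.H16.DP

open Matrix Module Polynomial Cfsg.Agent.H376 Cfsg.Agent.H514.DP

universe u

/-- diagonal elements of `SL_2` go to the Levi subgroup. -/
theorem ofSLTwo_diag {F : Type*} [Field F] {E : Type*} [Field E] [Algebra F E] {n : ℕ} (b : Basis (Fin n) F E) {l : E} (hl : l ≠ 0)
    [Algebra.IsSeparable F E] [FiniteDimensional F E] (A : SpecialLinearGroup (Fin 2) E) (h00 : A.1 0 0 = l) (h01 : A.1 0 1 = 0)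
    (h10 : A.1 1 0 = 0) (h11 : A.1 1 1 = l⁻¹) : SpEmb.ofSLTwo (F := F) b A = SpEmb.levi (Fin n) (mulGL b hl) := by
  apply Subtype.ext
  show fromBlocks (Algebra.leftMulMatrix b (A.1 0 0)) (Algebra.leftMulMatrix b (A.1 0 1) * (Algebra.traceMatrix F b)⁻¹)
    (Algebra.traceMatrix F b * Algebra.leftMulMatrix b (A.1 1 0)) (Algebra.leftMulMatrix b (A.1 1 1))ᵀ = _
  rw [h00, h01, h10, h11, map_zero, zero_mul, mul_zero]
  rfl

variable {F : Type u} [Field F] [Finite F]

theorem three_eq_zero (h3 : Nat.card F = 3) : (3 : F) = 0 := by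
  have := Fintype.ofFinite F
  have h := FiniteField.cast_card_eq_zero F
  rw [← Nat.card_eq_fintype_card, h3] at h
  exact_mod_cast h

theorem cases_three (h3 : Nat.card F = 3) (x : F) : x = 0 ∨ x = 1 ∨ x = -1 := by
  have := Fintype.ofFinite F
  have h := FiniteField.pow_card x
  rw [← Nat.card_eq_fintype_card, h3] at h
  have h2 : x * ((x - 1) * (x + 1)) = 0 := by linear_combination h
  rcases mul_eq_zero.1 h2 with h | h
  · exact Or.inl h
  · rcases mul_eq_zero.1 h with h | h
    · exact Or.inr (Or.inl (by linear_combination h))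
    · exact Or.inr (Or.inr (by linear_combination h))

/-- the root field of an irreducible polynomial -/
theorem root_data {f : F[X]} (hf : Irreducible f) (hm : f.Monic) {n : ℕ} (hn : f.natDegree = n) :
    ∃ (E : Type u) (_ : Field E) (_ : Finite E) (_ : Algebra F E) (l : E), Algebra.adjoin F {l} = ⊤ ∧ finrank F E = n ∧
      minpoly F l = f ∧ Nat.card E = Nat.card F ^ n ∧ aeval l f = 0 := by
  have : Fact (Irreducible f) := ⟨hf⟩
  let pb := AdjoinRoot.powerBasis hf.ne_zero
  have hfin : FiniteDimensional F (AdjoinRoot f) := pb.finite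
  have hE : Finite (AdjoinRoot f) := Module.finite_of_finite F
  have h1 : finrank F (AdjoinRoot f) = n := by
    rw [pb.finrank, AdjoinRoot.powerBasis_dim, hn]
  refine ⟨AdjoinRoot f, inferInstance, hE, inferInstance, AdjoinRoot.root f, AdjoinRoot.adjoinRoot_eq_top, h1, ?_, ?_, ?_⟩
  · rw [AdjoinRoot.minpoly_root hf.ne_zero, hm.leadingCoeff, inv_one, C_1, mul_one]
  · rw [Module.natCard_eq_pow_finrank (K := F) (V := AdjoinRoot f), h1]
  · rw [AdjoinRoot.aeval_eq, AdjoinRoot.mk_self]

/-- the 2 x 2 windows -/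
theorem exists_win {f : F[X]} (h3 : Nat.card F = 3) (hf : f = X ^ 2 + X - 1) :
    ∃ g : GL (Fin 2) F, g.1 = comp 2 (fun i => -f.coeff i) ∧ PE 5 3 (SpEmb.levi (Fin 2) g) := by
  have h30 := three_eq_zero h3
  have h10 : (1 : F) ≠ 0 := one_ne_zero
  have hfm : f.Monic := by
    rw [hf]
    monicity!
  have hfd : f.natDegree = 2 := by
    rw [hf]
    compute_degree!
  have hf0 : ∀ x : F, ¬ f.IsRoot x := by
    intro x hx
    have h1 : x ^ 2 + x - 1 = 0 := by simpa [hf] using hx
    rcases cases_three h3 x with rfl | rfl | rfl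
    · apply h10; linear_combination -h1
    · apply h10; linear_combination h1
    · apply h10; linear_combination -h1
  have hfi : Irreducible f := (Polynomial.Monic.irreducible_iff_roots_eq_zero_of_degree_le_three hfm (by omega) (by omega)).2 (by
    rw [Multiset.eq_zero_iff_forall_notMem]
    intro x hx
    exact hf0 x (isRoot_of_mem_roots hx))
  obtain ⟨E, _, _, _, l, hadj, hfr, hmin, hcard, hroot⟩ := root_data hfi hfm hfd
  have := Fintype.ofFinite F
  have := Fintype.ofFinite E
  have : FiniteDimensional F E := Module.Finite.of_finite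
  have hl2 : l ^ 2 + l - 1 = 0 := by simpa [hf] using hroot
  have hl0 : l ≠ 0 := by
    rintro rfl
    apply one_ne_zero (α := E)
    linear_combination -hl2
  have hll : l ≠ l⁻¹ := by
    intro h
    have h2 : l * l = 1 := by
      nth_rewrite 2 [h]
      exact mul_inv_cancel₀ hl0
    exact hl0 (by linear_combination hl2 - h2)
  obtain ⟨b, hb, -⟩ := comp_lev hl0 hadj hfr
  rw [hmin] at hb
  refine ⟨mulGL b hl0, hb, ?_⟩
  let A : SpecialLinearGroup (Fin 2) E := ⟨!![l, 0; 0, l⁻¹], by rw [det_fin_two_of, mul_inv_cancel₀ hl0]; ring⟩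
  rw [← ofSLTwo_diag b hl0 A rfl rfl rfl rfl]
  refine PE.map ?_ _
  let S : SpecialLinearGroup (Fin 2) E := ⟨!![1, 1; 0, 1], by rw [det_fin_two_of]; ring⟩
  let B : SpecialLinearGroup (Fin 2) E := ⟨!![l, l⁻¹ - l; 0, l⁻¹], by rw [det_fin_two_of, mul_inv_cancel₀ hl0]; ring⟩
  have h5 : PE 5 3 B := by
    refine pe_three_of_nonscalar (by norm_num) (Or.inr ⟨by rw [hcard, h3]; norm_num, by rw [hcard, h3]; norm_num⟩) B ?_
    intro c hc
    have h6 : B.1 0 1 = (c • (1 : Matrix (Fin 2) (Fin 2) E)) 0 1 := by rw [hc]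
    have h7 : l⁻¹ - l = c * 0 := h6
    exact sub_ne_zero.2 hll.symm (by rw [h7, mul_zero])
  have h7 : S * A = B * S := by
    apply Subtype.ext
    show (!![1, 1; 0, 1] * !![l, 0; 0, l⁻¹] : Matrix (Fin 2) (Fin 2) E) = !![l, l⁻¹ - l; 0, l⁻¹] * !![1, 1; 0, 1]
    rw [mul_fin_two, mul_fin_two]
    congr 1
    simp
  have h6 := h5.conj S⁻¹
  convert h6 using 1
  rw [inv_inv, mul_assoc, ← h7]
  group

/-- the block embedding of `GL` -/
noncomputable def embGL {κ ι : Type*} [Fintype κ] [DecidableEq κ] [Fintype ι] [DecidableEq ι] (f : κ ↪ ι) (g : GL κ F) : GL ι F :=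
  ⟨embM f g.1, embM f (g⁻¹).1, by rw [← embM_mul, ← Units.val_mul, mul_inv_cancel, Units.val_one, embM_one],
    by rw [← embM_mul, ← Units.val_mul, inv_mul_cancel, Units.val_one, embM_one]⟩

/-- the element of `Sp_6(3)` -/
theorem exists_comp_three (h3 : Nat.card F = 3) :
    ∃ y : symplecticGroup (Fin 3) F, PE 5 6 y ∧
      Nat.card (Subgroup.centralizer ({y} : Set (symplecticGroup (Fin 3) F))) ≤ 26 := by
  have h30 := three_eq_zero h3
  have h10 : (1 : F) ≠ 0 := one_ne_zero
  -- the cubic field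
  obtain ⟨f, hf⟩ : ∃ f : F[X], f = X ^ 3 + X ^ 2 + X - 1 := ⟨_, rfl⟩
  have hfm : f.Monic := by
    rw [hf]
    monicity!
  have hfd : f.natDegree = 3 := by
    rw [hf]
    compute_degree!
  have hf0 : ∀ x : F, ¬ f.IsRoot x := by
    intro x hx
    have h1 : x ^ 3 + x ^ 2 + x - 1 = 0 := by simpa [hf] using hx
    rcases cases_three h3 x with rfl | rfl | rfl
    · apply h10; linear_combination -h1
    · apply h10; linear_combination h30 - h1
    · apply h10; linear_combination h30 + h1
  have hfi : Irreducible f := (Polynomial.Monic.irreducible_iff_roots_eq_zero_of_degree_le_three hfm (by omega) (by omega)).2 (by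
    rw [Multiset.eq_zero_iff_forall_notMem]
    intro x hx
    exact hf0 x (isRoot_of_mem_roots hx))
  obtain ⟨E, _, _, _, l, hadj, hfr, hmin, hcard, hroot⟩ := root_data hfi hfm hfd
  have hl2 : l ^ 3 + l ^ 2 + l - 1 = 0 := by simpa [hf] using hroot
  have hl0 : l ≠ 0 := by
    rintro rfl
    apply one_ne_zero (α := E)
    linear_combination -hl2
  have h30E : (3 : E) = 0 := by
    rw [← map_ofNat (algebraMap F E) 3, h30, map_zero]
  obtain ⟨b, hb, -⟩ := comp_lev hl0 hadj hfr
  rw [hmin] at hb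
  refine ⟨SpEmb.levi (Fin 3) (mulGL b hl0), ?_, ?_⟩
  · obtain ⟨g, hg, hgP⟩ := exists_win h3 rfl
    have hco : comp 3 (fun i => -f.coeff i) =
        embM (sh (w := 2) (n := 3) 0 (by omega)) (comp 2 (fun i => -(X ^ 2 + X - 1 : F[X]).coeff i)) *
        embM (sh (w := 2) (n := 3) 1 (by omega)) (comp 2 (fun i => -(X ^ 2 + X - 1 : F[X]).coeff i)) := by
      refine (comp_mul 1 1 _ _ _ 1 ?_ ?_ ?_).symm
      · simp
      · intro i hi
        interval_cases i
        · simp [hf]
        · simp [hf, coeff_X, coeff_one]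
      · intro i hi hi'
        interval_cases i
        simp [hf, coeff_X, coeff_one]
    have he : mulGL b hl0 = embGL (sh (w := 2) (n := 3) 0 (by omega)) g * embGL (sh (w := 2) (n := 3) 1 (by omega)) g := by
      apply Units.ext
      show Algebra.leftMulMatrix b l = embM _ g.1 * embM _ g.1
      rw [hb, hg, hco]
    have hem : ∀ f : Fin 2 ↪ Fin 3, SpEmb.levi (Fin 3) (embGL f g) = spEmb f (SpEmb.levi (Fin 2) g) :=
      fun f => levi_emb f g (embGL f g) rfl
    rw [he, map_mul, hem, hem]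
    exact (hgP.map _).mul (hgP.map _)
  · refine (card_cent_levi b hl0 hadj ?_).trans ?_
    · rw [hmin, hf]
      intro h0
      have h1 : (l⁻¹) ^ 3 + (l⁻¹) ^ 2 + l⁻¹ - 1 = 0 := by simpa using h0
      have h2 : 1 + l + l ^ 2 - l ^ 3 = 0 := by
        have h4 : l * l⁻¹ = 1 := mul_inv_cancel₀ hl0
        have h5 : l ^ 3 * ((l⁻¹) ^ 3 + (l⁻¹) ^ 2 + l⁻¹ - 1) = 1 + l + l ^ 2 - l ^ 3 := by
          field_simp
        rw [← h5, h1, mul_zero]
      have h3 : l * (1 + l) = 0 := by
        linear_combination 2 * h2 + 2 * hl2 - l * (1 + l) * h30E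
      rcases mul_eq_zero.1 h3 with h | h
      · exact hl0 h
      · have h4 : l = -1 := by linear_combination h
        rw [h4] at hl2
        apply one_ne_zero (α := E)
        linear_combination h30E + hl2
    · rw [hcard, h3]
      norm_num

/-- the case `Sp_6(3)`, `p = 5` -/
theorem pw_three (h3 : Nat.card F = 3) :
    PW 5 36 (symplecticGroup (Fin 3) F) := by
  obtain ⟨y, hy, hC⟩ := exists_comp_three h3
  refine PW.of_pe (k := 6) (perf (by norm_num) (by omega)) hy
    (minDeg_odd (n := 3) (by norm_num) (by rw [h3]; decide)) (by norm_num) ?_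
  have h1 : (Nat.card (Subgroup.centralizer ({y} : Set (symplecticGroup (Fin 3) F))) - 1) ^ 6 ≤ 25 ^ 6 :=
    Nat.pow_le_pow_left (by omega) 6
  rw [h3]
  exact h1.trans_lt (by norm_num)

end Cfsg.Agent.H16.DP
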