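import Cfsg.Agent.H16.DP.SpTwo
import Cfsg.Agent.H16.DP.SpThree

/-!
# The symplectic groups (helper16, for S2454)
-/

set_option autoImplicit false

namespace Cfsg.Agent.H16.DP

open Matrix Module Cfsg.Agent.H376 Cfsg.Agent.H514.DP

universe u

variable {F : Type u} [Field F] [Finite F] {n : ℕ}

/-- **Case 1**: `p = char` or `p ∣ q ^ (2 n) - 1`. -/
theorem pw_case_one {p : ℕ} (hp : p.Prime) (hn : 2 ≤ n) (hex : ¬ (n = 2 ∧ Nat.card F = 2))
    (hd : CharP F p ∨ p ∣ Nat.card F ^ (2 * n) - 1) : PW p 30 (symplecticGroup (Fin n) F) := by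
  have hq : 2 ≤ Nat.card F := Finite.one_lt_card
  obtain ⟨E, _, _, _, φ, A, hE, hA, hA1, -, hC, -⟩ := exists_sl (F := F) (n := n) (m := Nat.card F ^ n + 1) (by omega) dvd_rfl
    (fun j h0 hj => not_dvd_add_one hq h0 hj)
  have h8 := pow_ge hq hn hex
  refine pw_one (m := 3) hn hex (y := φ A) (PE.map ?_ φ) hC
  refine pe_three_of_nonscalar hp ?_ A ?_
  · rcases hd with h | h
    · exact Or.inl (charP_of_injective_algebraMap (algebraMap F E).injective p)
    · refine Or.inr ⟨?_, by omega⟩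
      rw [hE, ← pow_mul, mul_comm n 2]
      exact h
  · intro c hc
    apply hA1
    rw [hc]
    simp

/-- **Case 2**. -/
theorem pw_case_two {p : ℕ} (hn : 3 ≤ n) (hex : ¬ (n = 3 ∧ Nat.card F = 3))
    (hW : ∀ (c : ℕ → F) (h : (comp n c).det = 1), PE p 10 (compSL n c h)) : PW p 50 (symplecticGroup (Fin n) F) := by
  obtain ⟨c, h, hC⟩ := exists_comp F hn
  exact pw_two (m := 10) hn hex ((hW c h).map (levSL (Fin n))) hC

/-- **Case 3**. -/
theorem pw_case_three {p i : ℕ} (hp : p.Prime) (hi : 2 ≤ i) (hin : i < n) (hn : n < 2 * i) (hd : p ∣ Nat.card F ^ i + 1)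
    (hnd : ∀ j, 0 < j → j < 2 * i → ¬ p ∣ Nat.card F ^ j - 1) : PW p 60 (symplecticGroup (Fin n) F) := by
  have hq : 2 ≤ Nat.card F := Finite.one_lt_card
  by_cases h2 : i = 2 ∧ Nat.card F = 2
  · obtain ⟨rfl, h2⟩ := h2
    obtain rfl : n = 3 := by omega
    rw [h2] at hd
    have h5 : p = 5 := (Nat.prime_dvd_prime_iff_eq hp (by norm_num)).1 hd
    subst h5
    exact (pw_six_two h2).mono (by norm_num)
  by_cases h3 : i = 2 ∧ Nat.card F = 3
  · obtain ⟨rfl, h3⟩ := h3
    obtain rfl : n = 3 := by omega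
    have h5 : p = 5 := by
      have h6 : p ∣ 2 * 5 := by rw [h3] at hd; exact hd
      rcases (Nat.Prime.dvd_mul hp).1 h6 with h | h
      · have h7 := (Nat.prime_dvd_prime_iff_eq hp (by norm_num)).1 h
        exact absurd (by rw [h7, h3]; norm_num) (hnd 1 (by norm_num) (by norm_num))
      · exact (Nat.prime_dvd_prime_iff_eq hp (by norm_num)).1 h
    subst h5
    exact (pw_three h3).mono (by norm_num)
  obtain ⟨E, _, _, _, φ, A, -, hA, -, -, hC, -⟩ := exists_sl (F := F) (n := i) (m := p) (by omega) hd hnd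
  have hH : PW p 6 (symplecticGroup (Fin i) F) := pw_H hi h2 h3 ((IsPE.of_prime hA).pe.map φ) hC
  obtain ⟨c, h, hC⟩ := exists_comp F (show 3 ≤ n by omega)
  exact pw_two (m := 6 + 6) (by omega) (by omega) (pe_windows hin.le (by omega) hH c h) hC

theorem dvd_iff {p q : ℕ} (hq : 1 ≤ q) (m : ℕ) : p ∣ q ^ m - 1 ↔ orderOf (q : ZMod p) ∣ m := by
  rw [orderOf_dvd_iff_pow_eq_one, ← ZMod.natCast_eq_zero_iff, Nat.cast_sub (Nat.one_le_pow _ _ hq), sub_eq_zero]
  push_cast
  rfl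

/-- the arithmetic of the prime divisors of `|Sp_{2n}(q)|` -/
theorem cases_dvd {p : ℕ} (hp : p.Prime) (hn : 2 ≤ n) (hd : p ∣ Nat.card (symplecticGroup (Fin n) F)) :
    (CharP F p ∨ p ∣ Nat.card F ^ (2 * n) - 1) ∨
      (∃ e, 3 ≤ e ∧ e < n ∧ ¬ e ∣ 2 * n ∧ p ∣ Nat.card F ^ e - 1 ∧ ∀ m, p ∣ Nat.card F ^ m - 1 → e ∣ m) ∨
      (∃ i, 2 ≤ i ∧ i < n ∧ n < 2 * i ∧ p ∣ Nat.card F ^ i + 1 ∧ ∀ j, 0 < j → j < 2 * i → ¬ p ∣ Nat.card F ^ j - 1) := by
  have := Fintype.ofFinite F
  set q := Nat.card F with hq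
  have hq2 : 2 ≤ q := Finite.one_lt_card
  by_cases h1 : CharP F p ∨ p ∣ q ^ (2 * n) - 1
  · exact Or.inl h1
  right
  rw [not_or] at h1
  obtain ⟨hc, hnd⟩ := h1
  have hj : ∃ j, 1 ≤ j ∧ j ≤ n ∧ p ∣ q ^ (2 * j) - 1 := by
    rw [LieClassical.SympCount.card_symplecticGroup, ← Nat.card_eq_fintype_card, ← hq] at hd
    rcases (Nat.Prime.dvd_mul hp).1 hd with h | h
    · exfalso
      have h2 := hp.dvd_of_dvd_pow h
      obtain ⟨r, hr⟩ := CharP.exists F
      have hrp := CharP.char_is_prime F r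
      have : Fact r.Prime := ⟨hrp⟩
      obtain ⟨k, -, hk⟩ := FiniteField.card F r
      rw [← Nat.card_eq_fintype_card, ← hq] at hk
      rw [hk] at h2
      have h3 := (Nat.prime_dvd_prime_iff_eq hp hrp).1 (hp.dvd_of_dvd_pow h2)
      subst h3
      exact hc hr
    · obtain ⟨i, hi, h2⟩ := (Prime.dvd_finsetProd_iff hp.prime _).1 h
      rw [Finset.mem_range] at hi
      exact ⟨i + 1, by omega, by omega, h2⟩
  obtain ⟨j, hj1, hjn, hj⟩ := hj
  set e := orderOf (q : ZMod p) with he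
  have hiff : ∀ m, p ∣ q ^ m - 1 ↔ e ∣ m := fun m => dvd_iff (by omega) m
  rw [hiff] at hj hnd
  have he0 : 0 < e := Nat.pos_of_dvd_of_pos hj (by omega)
  by_cases hen : e ≤ n
  · left
    refine ⟨e, ?_, ?_, hnd, (hiff e).2 dvd_rfl, fun m hm => (hiff m).1 hm⟩
    · by_contra h
      have : e = 1 ∨ e = 2 := by omega
      rcases this with h | h
      · exact hnd (by rw [h]; exact one_dvd _)
      · exact hnd (by rw [h]; exact dvd_mul_right _ _)
    · refine lt_of_le_of_ne hen ?_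
      intro h
      exact hnd (by rw [h]; exact dvd_mul_left _ _)
  · right
    push Not at hen
    have heven : 2 ∣ e := by
      by_contra h
      have hcop : Nat.Coprime e 2 := ((Nat.Prime.coprime_iff_not_dvd Nat.prime_two).2 h).symm
      have := Nat.le_of_dvd (by omega) (hcop.dvd_of_dvd_mul_left hj)
      omega
    obtain ⟨i, hi⟩ := heven
    rw [hi] at hj hnd hen he0
    have hij : i ∣ j := Nat.dvd_of_mul_dvd_mul_left (by norm_num) hj
    have hile := Nat.le_of_dvd (by omega) hij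
    have hine : i ≠ n := by
      rintro rfl
      exact hnd dvd_rfl
    refine ⟨i, by omega, by omega, by omega, ?_, ?_⟩
    · have h1 : p ∣ q ^ (2 * i) - 1 := (hiff _).2 (by rw [hi])
      have h2 : ¬ p ∣ q ^ i - 1 := by
        rw [hiff, hi]
        intro h
        have := Nat.le_of_dvd (by omega) h
        omega
      have hfac : q ^ (2 * i) - 1 = (q ^ i + 1) * (q ^ i - 1) := by
        have := Nat.sq_sub_sq (q ^ i) 1
        rw [← pow_mul, mul_comm i 2] at this
        simpa using this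
      rw [hfac] at h1
      exact ((Nat.Prime.dvd_mul hp).1 h1).resolve_right h2
    · intro j h0 hj
      rw [hiff, hi]
      intro h
      have := Nat.le_of_dvd h0 h
      omega

end Cfsg.Agent.H16.DP
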