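import Cfsg.Prelude.Def_LieTypeChar
import Cfsg.Agent.H16.DP.SpMain

/-!
# The row `PSp_{2n}(q)` (helper16, for S2454)
-/

set_option autoImplicit false

namespace Cfsg.Agent.H16.DP

open Matrix Cfsg Cfsg.Agent.H514.DP

/-- **The symplectic groups**, given the result on companion matrices. -/
theorem pw_sp_of {F : Type} [Field F] [Finite F] {n : ℕ} {p : ℕ} (hp : p.Prime) (hn : 2 ≤ n) (hex : ¬ (n = 2 ∧ Nat.card F = 2))
    (hd : p ∣ Nat.card (symplecticGroup (Fin n) F))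
    (hW : ∀ e, 3 ≤ e → e < n → ¬ e ∣ 2 * n → p ∣ Nat.card F ^ e - 1 → (∀ m, p ∣ Nat.card F ^ m - 1 → e ∣ m) →
      ∀ (c : ℕ → F) (h : (comp n c).det = 1), PE p 10 (compSL n c h)) : PW p 70 (symplecticGroup (Fin n) F) := by
  rcases cases_dvd hp hn hd with h | ⟨e, h1, h2, h3, h4, h5⟩ | ⟨i, h1, h2, h3, h4, h5⟩
  · exact (pw_case_one hp hn hex h).mono (by norm_num)
  · exact (pw_case_two (by omega) (by omega) (hW e h1 h2 h3 h4 h5)).mono (by norm_num)
  · exact (pw_case_three hp h1 h2 h3 h4 h5).mono (by norm_num)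

/-- **The row `PSp`**, given the result on companion matrices. -/
theorem pw_psp_of {S : Type*} [Group S] [Finite S] {l : ℕ} (h : IsPSpChar l S) {p : ℕ} (hp : p.Prime) (hd : p ∣ Nat.card S)
    (hW : ∀ (F : Type) [Field F] [Finite F] (n e : ℕ), 3 ≤ e → e < n → ¬ e ∣ 2 * n → p ∣ Nat.card F ^ e - 1 →
      (∀ m, p ∣ Nat.card F ^ m - 1 → e ∣ m) → ∀ (c : ℕ → F) (h : (comp n c).det = 1), PE p 10 (compSL n c h)) : PW p 70 S := by
  obtain ⟨F, _, _, _, n, hn, hn2, ⟨f⟩⟩ := h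
  have h1 : Nat.card S ∣ Nat.card (symplecticGroup (Fin n) F) := by
    rw [Nat.card_congr f.toEquiv]
    exact Subgroup.card_quotient_dvd_card _
  have h2 : PW p 70 (symplecticGroup (Fin n) F) := by
    refine pw_sp_of hp hn ?_ (hd.trans h1) (fun e => hW F n e)
    rintro ⟨rfl, h⟩
    have := hn2 rfl
    rw [← Nat.card_eq_fintype_card] at this
    omega
  exact (h2.map (QuotientGroup.mk' (Subgroup.center (symplecticGroup (Fin n) F))) (QuotientGroup.mk'_surjective _)).congr f.symm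

end Cfsg.Agent.H16.DP
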