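import Cfsg.Agent.H16.DP.PSp
import Cfsg.Agent.H514.DP.SLRes
import Cfsg.Agent.S0242

/-!
# The row `PSp_{2n}(q)` (helper16, for S2454)
-/

set_option autoImplicit false

namespace Cfsg.Agent.H16.DP

open Matrix Cfsg Cfsg.Agent.H514.DP

theorem dvd_card_SL {F : Type*} [Field F] [Finite F] {p n e : ℕ} (hp : p.Prime) (he : 3 ≤ e) (hen : e ≤ n)
    (hd : p ∣ Nat.card F ^ e - 1) (hmin : ∀ m, p ∣ Nat.card F ^ m - 1 → e ∣ m) :
    p ∣ Nat.card (SpecialLinearGroup (Fin n) F) := by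
  have := Fintype.ofFinite F
  have h0 := S0242.result (F := F) rfl n (by omega)
  rw [← Nat.card_eq_fintype_card] at h0
  have h1 : p ∣ ∏ i : Fin n, (Nat.card F ^ n - Nat.card F ^ (i : ℕ)) := by
    refine dvd_trans ?_ (Finset.dvd_prod_of_mem _ (Finset.mem_univ (⟨n - e, by omega⟩ : Fin n)))
    have h2 : Nat.card F ^ n - Nat.card F ^ (n - e) = Nat.card F ^ (n - e) * (Nat.card F ^ e - 1) := by
      rw [Nat.mul_sub, mul_one, ← pow_add, Nat.sub_add_cancel hen]
    show p ∣ Nat.card F ^ n - Nat.card F ^ (n - e)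
    rw [h2]
    exact hd.mul_left _
  rw [← h0] at h1
  rcases (Nat.Prime.dvd_mul hp).1 h1 with h | h
  · have h3 := hmin 1 (by rw [pow_one]; exact h)
    have := Nat.le_of_dvd (by norm_num) h3
    omega
  · exact h

/-- **The symplectic groups**. -/
theorem pw_sp {F : Type} [Field F] [Finite F] {n : ℕ} {p : ℕ} (hp : p.Prime) (hn : 2 ≤ n) (hex : ¬ (n = 2 ∧ Nat.card F = 2))
    (hd : p ∣ Nat.card (symplecticGroup (Fin n) F)) : PW p 70 (symplecticGroup (Fin n) F) :=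
  pw_sp_of hp hn hex hd fun _ h3 hen _ hdv hmin c h => pe_compSL hp (by omega) (dvd_card_SL hp h3 hen.le hdv hmin) c h

/-- **The row `PSp`**. -/
theorem pw_psp {S : Type*} [Group S] [Finite S] [IsSimpleGroup S] {l : ℕ} (h : IsPSpChar l S) {p : ℕ} (hp : p.Prime)
    (hd : p ∣ Nat.card S) : PW p 70 S :=
  pw_psp_of h hp hd fun _ _ _ _ _ h3 hen _ hdv hmin c h => pe_compSL hp (by omega) (dvd_card_SL hp h3 hen.le hdv hmin) c h

end Cfsg.Agent.H16.DP
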