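import Cfsg.Agent.H16.DP.Win
import Cfsg.Agent.H16.DP.Deg

/-!
# `Sp_6(2)`, the prime 5 (helper16, for S2454)
-/

set_option autoImplicit false
set_option linter.unusedSectionVars false
set_option linter.unusedSimpArgs false

namespace Cfsg.Agent.H16.DP

open Matrix Module Cfsg.Agent.H376 Cfsg.Agent.H514.DP

universe u

section Block

variable {F : Type u} [Field F] {α β : Type*} [Fintype α] [DecidableEq α] [Fintype β] [DecidableEq β]

/-- the shuffle -/
def shf (α β : Type*) : (α ⊕ α) ⊕ (β ⊕ β) ≃ (α ⊕ β) ⊕ (α ⊕ β) := Equiv.sumSumSumComm α α β β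

theorem blkM_shf (g : Matrix (α ⊕ α) (α ⊕ α) F) (h : Matrix (β ⊕ β) (β ⊕ β) F) :
    (SpEmb.blkM g h).submatrix (shf α β) (shf α β) = fromBlocks g 0 0 h := by
  ext i j
  rcases i with (i | i) | (i | i) <;> rcases j with (j | j) | (j | j) <;> rfl

theorem eq_blkM {M : Matrix ((α ⊕ β) ⊕ (α ⊕ β)) ((α ⊕ β) ⊕ (α ⊕ β)) F} {g : Matrix (α ⊕ α) (α ⊕ α) F}
    {h : Matrix (β ⊕ β) (β ⊕ β) F} (hM : M.submatrix (shf α β) (shf α β) = fromBlocks g 0 0 h) : M = SpEmb.blkM g h := by
  rw [← blkM_shf] at hM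
  have := congrArg (fun N => N.submatrix (shf α β).symm (shf α β).symm) hM
  simpa using this

theorem blkM_J : SpEmb.blkM (J α F) (J β F) = J (α ⊕ β) F := by
  unfold SpEmb.blkM J
  simp only [toBlocks_fromBlocks₁₁, toBlocks_fromBlocks₁₂, toBlocks_fromBlocks₂₁, toBlocks_fromBlocks₂₂]
  rw [fromBlocks_zero, fromBlocks_one]
  congr 1
  rw [← fromBlocks_one, fromBlocks_neg, neg_zero, neg_zero]

theorem blkM_transpose (g : Matrix (α ⊕ α) (α ⊕ α) F) (h : Matrix (β ⊕ β) (β ⊕ β) F) :
    (SpEmb.blkM g h)ᵀ = SpEmb.blkM gᵀ hᵀ := by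
  ext i j
  rcases i with (i | i) | (i | i) <;> rcases j with (j | j) | (j | j) <;> rfl

theorem card_cent_blk [Finite F] (x : symplecticGroup α F) {N : Matrix (α ⊕ α) (α ⊕ α) F} (h1 : N * (x.1 - 1) = 1)
    (h2 : (x.1 - 1) * N = 1) :
    Nat.card (Subgroup.centralizer ({SpEmb.blk α β (x, 1)} : Set (symplecticGroup (α ⊕ β) F))) ≤
      Nat.card (Subgroup.centralizer ({x} : Set (symplecticGroup α F))) * Nat.card (symplecticGroup β F) := by
  classical
  have hex : ∀ g : Subgroup.centralizer ({SpEmb.blk α β (x, 1)} : Set (symplecticGroup (α ⊕ β) F)),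
      ∃ (a : Subgroup.centralizer ({x} : Set (symplecticGroup α F))) (d : symplecticGroup β F),
        g.1.1 = SpEmb.blkM a.1.1 d.1 := by
    rintro ⟨g, hg⟩
    rw [Subgroup.mem_centralizer_singleton_iff] at hg
    have h3 : g.1 * SpEmb.blkM x.1 1 = SpEmb.blkM x.1 1 * g.1 := congrArg Subtype.val hg
    obtain ⟨A, B, C, D, hgb⟩ : ∃ A B C D, g.1.submatrix (shf α β) (shf α β) = fromBlocks A B C D :=
      ⟨_, _, _, _, (fromBlocks_toBlocks _).symm⟩
    have h4 := congrArg (fun M => M.submatrix (shf α β) (shf α β)) h3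
    simp only [← Matrix.submatrix_mul_equiv _ _ (shf α β) (shf α β) (shf α β)] at h4
    rw [hgb, blkM_shf, fromBlocks_multiply, fromBlocks_multiply] at h4
    simp only [mul_zero, zero_mul, add_zero, zero_add, mul_one, one_mul, Matrix.mul_zero, Matrix.zero_mul, Matrix.mul_one,
      Matrix.one_mul] at h4
    obtain ⟨hA, hB, hC, -⟩ := fromBlocks_inj.1 h4
    have hB0 : B = 0 := by
      have h5 : (x.1 - 1) * B = 0 := by rw [Matrix.sub_mul, Matrix.one_mul, ← hB, sub_self]
      calc B = (N * (x.1 - 1)) * B := by rw [h1, Matrix.one_mul]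
        _ = 0 := by rw [Matrix.mul_assoc, h5, Matrix.mul_zero]
    have hC0 : C = 0 := by
      have h5 : C * (x.1 - 1) = 0 := by rw [Matrix.mul_sub, Matrix.mul_one, hC, sub_self]
      calc C = C * ((x.1 - 1) * N) := by rw [h2, Matrix.mul_one]
        _ = 0 := by rw [← Matrix.mul_assoc, h5, Matrix.zero_mul]
    rw [hB0, hC0] at hgb
    have hgM := eq_blkM hgb
    have hmem := g.2
    rw [SymplecticGroup.mem_iff, hgM, ← blkM_J, blkM_transpose, ← SpEmb.blkM_mul, ← SpEmb.blkM_mul] at hmem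
    obtain ⟨h5, h6⟩ := SpEmb.blkM_inj hmem
    refine ⟨⟨⟨A, SymplecticGroup.mem_iff.2 h5⟩, ?_⟩, ⟨D, SymplecticGroup.mem_iff.2 h6⟩, hgM⟩
    rw [Subgroup.mem_centralizer_singleton_iff]
    exact Subtype.ext hA
  choose fa fd hf using hex
  rw [← Nat.card_prod]
  refine Nat.card_le_card_of_injective (fun g => (fa g, fd g)) ?_
  intro g g' hgg
  have e1 : fa g = fa g' := congrArg Prod.fst hgg
  have e2 : fd g = fd g' := congrArg Prod.snd hgg
  apply Subtype.ext
  apply Subtype.ext
  rw [hf, hf, e1, e2]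

theorem reidx_surjective (e : α ≃ β) : Function.Surjective (SpEmb.reidx (F := F) e) := by
  intro g
  refine ⟨SpEmb.reidx e.symm g, ?_⟩
  apply Subtype.ext
  show (g.1.submatrix (Equiv.sumCongr e.symm e.symm).symm (Equiv.sumCongr e.symm e.symm).symm).submatrix
    (Equiv.sumCongr e e).symm (Equiv.sumCongr e e).symm = g.1
  ext i j
  rcases i with i | i <;> rcases j with j | j <;> simp

end Block

theorem card_cent_equiv {G H : Type*} [Group G] [Group H] [Finite G] (f : G →* H) (hf : Function.Bijective f) (y : G) :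
    Nat.card (Subgroup.centralizer ({f y} : Set H)) ≤ Nat.card (Subgroup.centralizer ({y} : Set G)) := by
  let e : G ≃* H := MulEquiv.ofBijective f hf
  refine Nat.card_le_card_of_injective (fun g => (⟨e.symm g.1, ?_⟩ : Subgroup.centralizer ({y} : Set G))) ?_
  · have h := g.2
    rw [Subgroup.mem_centralizer_singleton_iff] at h ⊢
    have h' : g.1 * e y = e y * g.1 := h
    apply e.injective
    rw [map_mul, map_mul, e.apply_symm_apply, h']
  · intro a b hab
    have h1 : e.symm a.1 = e.symm b.1 := congrArg Subtype.val hab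
    exact Subtype.ext (e.symm.injective h1)

/-- the case `Sp_6(2)`, `p = 5` -/
theorem pw_six_two {F : Type u} [Field F] [Finite F] (h2 : Nat.card F = 2) : PW 5 15 (symplecticGroup (Fin 3) F) := by
  have := Fintype.ofFinite F
  obtain ⟨E, _, _, _, φ, A, -, hA, -, -, hC, N, hN1, hN2⟩ := exists_sl (F := F) (n := 2) (m := 5) (by norm_num) (by
    rw [h2]; norm_num) (by
    intro j h0 hj
    rw [h2]
    interval_cases j <;> norm_num)
  rw [h2] at hC
  set x := φ A with hx
  have hxp : PE 5 1 x := (IsPE.of_prime hA).pe.map φ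
  let f : symplecticGroup (Fin 2 ⊕ Fin 1) F →* symplecticGroup (Fin 3) F := SpEmb.reidx (finSumFinEquiv (m := 2) (n := 1))
  have hf : Function.Bijective f := ⟨SpEmb.reidx_injective _, reidx_surjective _⟩
  have hc1 := card_cent_equiv f hf (SpEmb.blk (Fin 2) (Fin 1) (x, 1))
  have hc2 := card_cent_blk (β := Fin 1) x hN1 hN2
  have hc3 : Nat.card (symplecticGroup (Fin 1) F) = 6 := by
    rw [LieClassical.SympCount.card_symplecticGroup, ← Nat.card_eq_fintype_card, h2]
    rfl
  rw [hc3] at hc2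
  refine PW.of_pe (k := 15) (y := f (SpEmb.blk (Fin 2) (Fin 1) (x, 1))) (perf (by norm_num) (by omega)) (m := 1) ?_
    (minDeg_even (n := 3) (by norm_num) (by rw [h2]; decide) (by omega)) (by norm_num) ?_
  · exact (hxp.map ((SpEmb.blk (Fin 2) (Fin 1)).comp (MonoidHom.inl _ _))).map f
  · have h1 : (Nat.card (Subgroup.centralizer ({f (SpEmb.blk (Fin 2) (Fin 1) (x, 1))} : Set (symplecticGroup (Fin 3) F))) - 1) ^ 15
        ≤ 29 ^ 15 := Nat.pow_le_pow_left (by
          have h5 : Nat.card (Subgroup.centralizer ({x} : Set (symplecticGroup (Fin 2) F))) ≤ 5 := hC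
          omega) 15
    rw [h2]
    exact h1.trans_lt (by norm_num)

end Cfsg.Agent.H16.DP
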